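import Mathlib.RingTheory.PowerSeries.Expand
import Mathlib.RingTheory.MvPowerSeries.Expand
import Mathlib.Algebra.Polynomial.Expand
import Mathlib.RingTheory.LaurentSeries
import Mathlib.Algebra.MvPolynomial.Equiv
import Mathlib.RingTheory.Localization.FractionRing
import Mathlib.RingTheory.AlgebraicIndependent.TranscendenceBasis
import Mathlib.FieldTheory.IntermediateField.Adjoin.Algebra
import Mathlib.FieldTheory.Finite.Basic
import Mathlib.LinearAlgebra.Dimension.Free
import Mathlib.LinearAlgebra.FreeModule.PID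
import Mathlib.Algebra.BigOperators.Field

/-!
# The `p`-degree of fields of characteristic `p`
-/

namespace GrothLib.PDegree

universe u v

variable (p : ℕ) [hp : Fact p.Prime]

/-- A basis of `R` over its `p`-th powers, of cardinality `N`. -/
def HasBasis (R : Type u) [CommRing R] (N : ℕ) : Prop :=
  ∃ b : Fin N → R, Function.Bijective fun c : Fin N → R => ∑ i, c i ^ p * b i

theorem HasBasis.of_fintype {R : Type u} [CommRing R] {ι : Type*} [Fintype ι] (b : ι → R)
    (h : Function.Bijective fun c : ι → R => ∑ i, c i ^ p * b i) : HasBasis p R (Fintype.card ι) := by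
  refine ⟨b ∘ (Fintype.equivFin ι).symm, ?_⟩
  let e : (Fin (Fintype.card ι) → R) ≃ (ι → R) := Equiv.arrowCongr (Fintype.equivFin ι).symm (Equiv.refl R)
  have : (fun c : Fin (Fintype.card ι) → R => ∑ i, c i ^ p * (b ∘ (Fintype.equivFin ι).symm) i) =
      (fun c : ι → R => ∑ i, c i ^ p * b i) ∘ e := funext fun c => by
    refine (Fintype.sum_equiv (Fintype.equivFin ι) _ _ fun i => ?_).symm
    simp [e]
  rw [this]
  exact h.comp e.bijective

theorem HasBasis.of_equiv {R : Type u} {S : Type v} [CommRing R] [CommRing S] (e : R ≃+* S) {N : ℕ}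
    (h : HasBasis p R N) : HasBasis p S N := by
  obtain ⟨b, hb⟩ := h
  refine ⟨e ∘ b, ?_⟩
  let e' : (Fin N → S) ≃ (Fin N → R) := Equiv.arrowCongr (Equiv.refl _) e.symm.toEquiv
  have : (fun c : Fin N → S => ∑ i, c i ^ p * (e ∘ b) i) = e ∘ (fun c : Fin N → R => ∑ i, c i ^ p * b i) ∘ e' :=
    funext fun c => by simp [e', map_sum]
  rw [this]
  exact e.bijective.comp (hb.comp e'.bijective)

theorem HasBasis.polynomial {R : Type u} [CommRing R] [CharP R p] {N : ℕ} (h : HasBasis p R N) :
    HasBasis p (Polynomial R) (N * p) := by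
  classical
  obtain ⟨b, hb⟩ := h
  have key := HasBasis.of_fintype p (ι := Fin N × Fin p)
    (fun x => Polynomial.C (b x.1) * Polynomial.X ^ (x.2 : ℕ)) ?_
  · simpa using key
  have hcoef : ∀ (c : Fin N × Fin p → Polynomial R) (q : ℕ) (j : Fin p),
      (∑ x, c x ^ p * (Polynomial.C (b x.1) * Polynomial.X ^ (x.2 : ℕ))).coeff (p * q + j) =
        ∑ i, (c (i, j)).coeff q ^ p * b i := by
    intro c q j
    rw [Polynomial.finsetSum_coeff, Fintype.sum_prod_type]
    refine Finset.sum_congr rfl fun i _ => ?_
    rw [Finset.sum_eq_single j]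
    · rw [← mul_assoc, Polynomial.coeff_mul_X_pow, Polynomial.coeff_mul_C, ← Polynomial.map_frobenius_expand p,
        Polynomial.coeff_map, Polynomial.coeff_expand_mul' hp.out.pos, frobenius_def]
    · intro l _ hl
      rw [← mul_assoc, Polynomial.coeff_mul_X_pow', Polynomial.coeff_mul_C, ← Polynomial.map_frobenius_expand p,
        Polynomial.coeff_map, Polynomial.coeff_expand hp.out.pos]
      split_ifs with h1 h2
      · exfalso
        apply hl
        obtain ⟨t, ht⟩ := h2
        simp only at h1 ht
        have hj := j.isLt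
        have hl' := l.isLt
        have h3 : (p * q + j) = p * t + l := by omega
        have h4 : (p * q + (j : ℕ)) % p = (p * t + (l : ℕ)) % p := by rw [h3]
        rw [Nat.mul_add_mod, Nat.mul_add_mod, Nat.mod_eq_of_lt hj, Nat.mod_eq_of_lt hl'] at h4
        exact Fin.ext h4.symm
      · simp
      · rfl
    · simp
  constructor
  · intro c c' hc
    funext x
    refine Polynomial.ext fun q => ?_
    have := congrArg (fun f => Polynomial.coeff f (p * q + x.2)) hc
    simp only [hcoef] at this
    exact congrFun (hb.1 (a₁ := fun i => (c (i, x.2)).coeff q) (a₂ := fun i => (c' (i, x.2)).coeff q) this) x.1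
  · intro f
    let g : R → Fin N → R := Function.surjInv hb.2
    have hg : ∀ a, ∑ i, g a i ^ p * b i = a := Function.surjInv_eq hb.2
    refine ⟨fun x => ∑ q ∈ Finset.range (f.natDegree + 1), Polynomial.monomial q (g (f.coeff (p * q + x.2)) x.1), ?_⟩
    refine Polynomial.ext fun n => ?_
    obtain ⟨q, j, rfl⟩ : ∃ q, ∃ j : Fin p, n = p * q + j :=
      ⟨n / p, ⟨n % p, Nat.mod_lt _ hp.out.pos⟩, (Nat.div_add_mod n p).symm⟩
    rw [hcoef]
    simp only [Polynomial.finsetSum_coeff, Polynomial.coeff_monomial, Finset.sum_ite_eq', Finset.mem_range]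
    split_ifs with h
    · exact hg _
    · rw [Polynomial.coeff_eq_zero_of_natDegree_lt (p := f) (n := p * q + j)]
      · simp [zero_pow hp.out.ne_zero]
      · have h1 : q ≤ p * q := Nat.le_mul_of_pos_left q hp.out.pos
        omega

theorem HasBasis.mvPolynomial {R : Type u} [CommRing R] [CharP R p] {N : ℕ} (h : HasBasis p R N) :
    ∀ d : ℕ, HasBasis p (MvPolynomial (Fin d) R) (N * p ^ d) := by
  intro d
  induction d with
  | zero => simpa using h.of_equiv p (MvPolynomial.isEmptyAlgEquiv R (Fin 0)).toRingEquiv.symm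
  | succ d ih =>
    have := (ih.polynomial p).of_equiv p (MvPolynomial.finSuccEquiv R d).toRingEquiv.symm
    rwa [mul_assoc, ← pow_succ] at this

theorem hasBasis_powerSeries {k : Type u} [CommRing k] [CharP k p] [PerfectRing k p] :
    HasBasis p (PowerSeries k) p := by
  classical
  refine ⟨fun i => PowerSeries.X ^ (i : ℕ), ?_⟩
  have hpow : ∀ g : PowerSeries k, g ^ p = PowerSeries.map (frobenius k p) (PowerSeries.expand p hp.out.ne_zero g) :=
    fun g => (MvPowerSeries.map_frobenius_expand p hp.out.ne_zero).symm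
  have hcoef : ∀ (c : Fin p → PowerSeries k) (q : ℕ) (j : Fin p),
      PowerSeries.coeff (p * q + j) (∑ i, c i ^ p * PowerSeries.X ^ (i : ℕ)) = PowerSeries.coeff q (c j) ^ p := by
    intro c q j
    rw [map_sum, Finset.sum_eq_single j]
    · rw [PowerSeries.coeff_mul_X_pow, hpow, PowerSeries.coeff_map, PowerSeries.coeff_expand_mul, frobenius_def]
    · intro l _ hl
      rw [PowerSeries.coeff_mul_X_pow']
      split_ifs with h1
      · rw [hpow, PowerSeries.coeff_map, PowerSeries.coeff_expand_of_not_dvd, map_zero]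
        intro h2
        apply hl
        obtain ⟨t, ht⟩ := h2
        have hj := j.isLt
        have hl' := l.isLt
        have h3 : (p * q + j) = p * t + l := by omega
        have h4 : (p * q + (j : ℕ)) % p = (p * t + (l : ℕ)) % p := by rw [h3]
        rw [Nat.mul_add_mod, Nat.mul_add_mod, Nat.mod_eq_of_lt hj, Nat.mod_eq_of_lt hl'] at h4
        exact Fin.ext h4.symm
      · rfl
    · simp
  constructor
  · intro c c' hc
    funext j
    refine PowerSeries.ext fun q => ?_
    have := congrArg (PowerSeries.coeff (p * q + j)) hc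
    simp only [hcoef] at this
    exact (bijective_frobenius k p).1 this
  · intro f
    choose r hr using fun a : k => (bijective_frobenius k p).2 a
    refine ⟨fun j => PowerSeries.mk fun q => r (PowerSeries.coeff (p * q + j) f), PowerSeries.ext fun n => ?_⟩
    obtain ⟨q, j, rfl⟩ : ∃ q, ∃ j : Fin p, n = p * q + j :=
      ⟨n / p, ⟨n % p, Nat.mod_lt _ hp.out.pos⟩, (Nat.div_add_mod n p).symm⟩
    rw [hcoef, PowerSeries.coeff_mk, ← frobenius_def, hr]

theorem HasBasis.fraction {R : Type u} [CommRing R] [IsDomain R] [CharP R p] {Q : Type v} [Field Q] [Algebra R Q]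
    [IsFractionRing R Q] {N : ℕ} (h : HasBasis p R N) : HasBasis p Q N := by
  classical
  obtain ⟨b, hb⟩ := h
  haveI : CharP Q p := charP_of_injective_ringHom (IsFractionRing.injective R Q) p
  refine ⟨fun i => algebraMap R Q (b i), fun c c' hc => ?_, fun w => ?_⟩
  · obtain ⟨s, hs⟩ := IsLocalization.exist_integer_multiples_of_finite (nonZeroDivisors R) (fun i => c i - c' i)
    choose r hr using hs
    have h0 : ∑ i, r i ^ p * b i = ∑ i, (0 : R) ^ p * b i := by
      apply IsFractionRing.injective R Q
      simp only [map_sum, map_mul, map_pow, map_zero, hr, Algebra.smul_def, mul_pow]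
      simp only [sub_pow_char, sub_mul, mul_sub, Finset.sum_sub_distrib, mul_assoc, ← Finset.mul_sum]
      simp only [] at hc
      rw [hc, sub_self, zero_pow hp.out.ne_zero]
      simp
    funext i
    have := hr i
    rw [congrFun (hb.1 h0) i, map_zero, Algebra.smul_def, eq_comm, mul_eq_zero] at this
    exact sub_eq_zero.1 (this.resolve_left (IsFractionRing.to_map_ne_zero_of_mem_nonZeroDivisors s.2))
  · obtain ⟨f, g, hg, rfl⟩ := IsFractionRing.div_surjective R w
    obtain ⟨r, hr⟩ := hb.2 (f * g ^ (p - 1))
    refine ⟨fun i => algebraMap R Q (r i) / algebraMap R Q g, ?_⟩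
    have hg0 : algebraMap R Q g ≠ 0 := IsFractionRing.to_map_ne_zero_of_mem_nonZeroDivisors hg
    simp only [div_pow, div_mul_eq_mul_div, ← Finset.sum_div, ← map_pow, ← map_mul, ← map_sum] at hr ⊢
    rw [show ∑ x, r x ^ p * b x = f * g ^ (p - 1) from hr, map_mul, map_pow, map_pow,
      div_eq_div_iff (pow_ne_zero _ hg0) hg0, mul_assoc, ← pow_succ, Nat.sub_add_cancel hp.out.one_le]

end GrothLib.PDegree
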