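import Groth.Agent.Lib.PDegree.Basic
import Mathlib.RingTheory.Localization.AtPrime.Basic

/-!
# Invariance of the `p`-degree under finite extensions
-/

namespace GrothLib.PDegree

universe u v

variable (p : ℕ) [hp : Fact p.Prime]

set_option linter.unusedVariables false in
/-- A copy of a field, an algebra over the field through Frobenius. -/
@[nolint unusedArguments]
def Fr (p : ℕ) (K : Type u) : Type u := K

instance {K : Type u} [Field K] : Field (Fr p K) := inferInstanceAs (Field K)

/-- The identity of underlying rings. -/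
def toFr (K : Type u) [Field K] : K ≃+* Fr p K := RingEquiv.refl K

variable {F : Type u} [Field F] {L : Type v} [Field L] [CharP L p] [Algebra F L]

noncomputable instance algFr : Algebra F (Fr p L) :=
  ((toFr p L : L →+* Fr p L).comp ((frobenius L p).comp (algebraMap F L))).toAlgebra

theorem algFr_apply (a : F) : algebraMap F (Fr p L) a = toFr p L (algebraMap F L a ^ p) := rfl

instance : IsScalarTower F L (Fr p L) := IsScalarTower.of_algebraMap_eq fun _ => rfl

/-- The `p`-degree. -/
noncomputable def pdeg (K : Type u) [Field K] [CharP K p] : ℕ := Module.finrank K (Fr p K)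

theorem pdeg_of_hasBasis {K : Type u} [Field K] [CharP K p] {N : ℕ} (h : HasBasis p K N) : pdeg p K = N := by
  obtain ⟨b, hb⟩ := h
  let f : (Fin N → K) →ₗ[K] Fr p K := Fintype.linearCombination K (fun i => toFr p K (b i))
  have hf : Function.Bijective f := by
    have : (f : (Fin N → K) → Fr p K) = toFr p K ∘ fun c : Fin N → K => ∑ i, c i ^ p * b i := funext fun c => by
      simp only [f, Function.comp_apply, Fintype.linearCombination_apply, map_sum, Algebra.smul_def, map_mul]
      rfl
    rw [this]
    exact (toFr p K).bijective.comp hb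
  rw [pdeg, ← (LinearEquiv.ofBijective f hf).finrank_eq, Module.finrank_fintype_fun_eq_card, Fintype.card_fin]

theorem pdeg_eq_of_finite [CharP F p] [Module.Finite F L] : pdeg p L = pdeg p F := by
  letI : Algebra (Fr p F) (Fr p L) :=
    ((toFr p L : L →+* Fr p L).comp ((algebraMap F L).comp ((toFr p F).symm : Fr p F →+* F))).toAlgebra
  haveI : IsScalarTower F (Fr p F) (Fr p L) := IsScalarTower.of_algebraMap_eq fun a => by
    change toFr p L (algebraMap F L a ^ p) = toFr p L (algebraMap F L ((toFr p F).symm (toFr p F (a ^ p))))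
    simp [map_pow]
  have hc : (algebraMap (Fr p F) (Fr p L)).comp (toFr p F).toRingHom = (toFr p L).toRingHom.comp (algebraMap F L) :=
    RingHom.ext fun a => rfl
  have h1 : Module.finrank (Fr p F) (Fr p L) = Module.finrank F L :=
    (Algebra.finrank_eq_of_equiv_equiv (R₀ := F) (S₀ := L) (R₁ := Fr p F) (S₁ := Fr p L) (toFr p F) (toFr p L) hc).symm
  have h2 : Module.finrank F L * pdeg p L = Module.finrank F (Fr p L) := Module.finrank_mul_finrank F L (Fr p L)
  have h3 : pdeg p F * Module.finrank (Fr p F) (Fr p L) = Module.finrank F (Fr p L) :=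
    Module.finrank_mul_finrank F (Fr p F) (Fr p L)
  rw [h1, ← h2, mul_comm] at h3
  exact (mul_left_cancel₀ Module.finrank_pos.ne' h3).symm

theorem finrank_fieldRange {K : Type u} [Field K] [CharP K p] :
    Module.finrank (↥(frobenius K p).fieldRange) K = pdeg p K :=
  (Algebra.finrank_eq_of_equiv_equiv (RingEquiv.ofBijective (frobenius K p).rangeRestrictField
    ⟨(frobenius K p).rangeRestrictField.injective, fun ⟨_, x, hx⟩ => ⟨x, Subtype.ext hx⟩⟩)
    (toFr p K).symm (RingHom.ext fun a => rfl)).symm

theorem pdeg_laurent {k : Type u} [Field k] [Finite k] [CharP k p] {K : Type v} [Field K]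
    [Algebra (LaurentSeries k) K] [CharP K p] (hfg : (⊤ : IntermediateField (LaurentSeries k) K).FG)
    (d : ℕ) (hd : Algebra.trdeg (LaurentSeries k) K = d) : pdeg p K = p ^ (d + 1) := by
  haveI : CharP (PowerSeries k) p := charP_of_injective_ringHom (PowerSeries.C_injective (R := k)) p
  haveI : CharP (LaurentSeries k) p := charP_of_injective_ringHom
    (IsFractionRing.injective (PowerSeries k) (LaurentSeries k)) p
  haveI : Algebra.EssFiniteType (LaurentSeries k) K := IntermediateField.fg_top_iff.mp hfg
  have hbase : HasBasis p (LaurentSeries k) p := (hasBasis_powerSeries p (k := k)).fraction p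
  obtain ⟨ι, x₀, hx₀⟩ := exists_isTranscendenceBasis' (LaurentSeries k) K
  have hι : Cardinal.mk ι = d := hx₀.cardinalMk_eq_trdeg.trans hd
  obtain ⟨e⟩ : Nonempty (ι ≃ Fin d) := by
    haveI : Finite ι := Cardinal.lt_aleph0_iff_finite.1 (hι ▸ Cardinal.natCast_lt_aleph0)
    haveI := Fintype.ofFinite ι
    exact ⟨Fintype.equivFinOfCardEq (by rw [Cardinal.mk_fintype] at hι; exact_mod_cast hι)⟩
  let x := x₀ ∘ e.symm
  have hx : IsTranscendenceBasis (LaurentSeries k) x := hx₀.comp_equiv e.symm
  let P := MvPolynomial (Fin d) (LaurentSeries k)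
  let Q := FractionRing P
  haveI : CharP Q p := charP_of_injective_ringHom (IsFractionRing.injective P Q) p
  have hQ : pdeg p Q = p ^ (d + 1) := by
    rw [pdeg_of_hasBasis p ((hbase.mvPolynomial p d).fraction p), pow_succ']
  have hinj : Function.Injective (MvPolynomial.aeval (R := LaurentSeries k) x) :=
    algebraicIndependent_iff_injective_aeval.1 hx.1
  let φ : Q →+* K := IsFractionRing.lift (A := P) (g := (MvPolynomial.aeval x).toRingHom) hinj
  letI : Algebra Q K := φ.toAlgebra
  haveI : IsScalarTower (LaurentSeries k) Q K := IsScalarTower.of_algebraMap_eq fun a => by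
    change _ = φ (algebraMap (LaurentSeries k) Q a)
    rw [IsScalarTower.algebraMap_apply (LaurentSeries k) P Q, IsFractionRing.lift_algebraMap]
    exact (MvPolynomial.aeval_C _ _).symm
  haveI : Algebra.EssFiniteType Q K := Algebra.EssFiniteType.of_comp (LaurentSeries k) Q K
  haveI : Algebra.IsAlgebraic Q K := by
    let A := Algebra.adjoin (LaurentSeries k) (Set.range x)
    haveI : Algebra.IsAlgebraic A K := hx.isAlgebraic
    let ψ : A →+* Q := (algebraMap P Q).comp (hx.1.aevalEquiv.symm : A →+* P)
    letI : Algebra A Q := ψ.toAlgebra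
    haveI : IsScalarTower A Q K := IsScalarTower.of_algebraMap_eq fun a => by
      obtain ⟨q, rfl⟩ := hx.1.aevalEquiv.surjective a
      change _ = φ (algebraMap P Q (hx.1.aevalEquiv.symm (hx.1.aevalEquiv q)))
      rw [AlgEquiv.symm_apply_apply, IsFractionRing.lift_algebraMap]
      exact hx.1.algebraMap_aevalEquiv q
    have hψ : Function.Injective (algebraMap A Q) :=
      (IsFractionRing.injective P Q).comp hx.1.aevalEquiv.symm.injective
    exact ⟨fun z => (Algebra.IsAlgebraic.isAlgebraic (R := A) z).extendScalars (S := Q) hψ⟩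
  haveI : Module.Finite Q K := Algebra.finite_of_essFiniteType_of_isAlgebraic
  rw [pdeg_eq_of_finite p (F := Q) (L := K), hQ]

end GrothLib.PDegree
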